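/-
Basic structure of the normalization of an integral scheme: integrality, sections over affine opens,
normality of the local rings.
-/
import Groth.Prelude.Def_Curv2
import Mathlib.RingTheory.IntegralClosure.IntegrallyClosed

set_option autoImplicit false
set_option backward.isDefEq.respectTransparency.types false

universe u

open CategoryTheory AlgebraicGeometry TopologicalSpace

namespace Groth.Agent.Curv2Norm

variable (X : Scheme.{u}) [IsIntegral X] [QuasiCompact (X.fromSpecStalk (genericPoint X))]
  [QuasiSeparated (X.fromSpecStalk (genericPoint X))]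

theorem isIntegral : IsIntegral (Curv2.normalization X) :=
  haveI : IsDomain (X.presheaf.stalk (genericPoint X)) := inferInstanceAs (IsDomain X.functionField)
  inferInstanceAs (IsIntegral (X.fromSpecStalk (genericPoint X)).normalization)

theorem isIntegralHom : IsIntegralHom (Curv2.normalizationι X) :=
  inferInstanceAs (IsIntegralHom (X.fromSpecStalk (genericPoint X)).fromNormalization)

theorem isAffineOpen_preimage {U : X.Opens} (hU : IsAffineOpen U) :
    IsAffineOpen (Curv2.normalizationι X ⁻¹ᵁ U) :=
  haveI := isIntegralHom X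
  hU.preimage _

/-- Sections of the normalization over an affine open. -/
theorem exists_sections_equiv {U : X.Opens} (hU : IsAffineOpen U) [Nonempty U] :
    ∃ φ : Γ(Curv2.normalization X, Curv2.normalizationι X ⁻¹ᵁ U) ≃+*
        integralClosure Γ(X, U) X.functionField,
      ∀ r, φ ((Curv2.normalizationι X).app U r) = algebraMap Γ(X, U) _ r := by
  let f := X.fromSpecStalk (genericPoint X)
  letI := (f.app U).hom.toAlgebra
  obtain ⟨⟨x₀, hx₀⟩⟩ := (inferInstance : Nonempty U)
  have hgen : genericPoint X ∈ U := (genericPoint_specializes x₀).mem_open U.2 hx₀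
  have htop : f ⁻¹ᵁ U = ⊤ := by
    refine top_le_iff.mp fun z _ => ?_
    have hz : f z ⤳ genericPoint X := X.range_fromSpecStalk.le ⟨z, rfl⟩
    exact hz.mem_open U.2 hgen
  let ei := (Spec X.functionField).presheaf.mapIso (eqToIso htop.symm).op ≪≫
    Scheme.ΓSpecIso X.functionField
  have hei : f.app U ≫ ei.hom = X.presheaf.germ U (genericPoint X) hgen := by
    rw [Scheme.fromSpecStalk_app hgen]
    simp only [ei, Category.assoc, Iso.trans_hom, Functor.mapIso_hom]
    erw [← Functor.map_comp_assoc]
    simp
  let e : Γ(Spec X.functionField, f ⁻¹ᵁ U) ≃ₐ[Γ(X, U)] X.functionField :=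
    AlgEquiv.ofRingEquiv (f := ei.commRingCatIsoToRingEquiv) fun r => congr($(hei).hom r)
  let i := (f.normalizationObjIso hU).commRingCatIsoToRingEquiv
  have happ : ∀ r, i ((Curv2.normalizationι X).app U r) = algebraMap Γ(X, U) _ r := fun r => by
    have h := congr($(f.fromNormalization_app hU).hom r)
    refine (congrArg i h).trans ?_
    exact i.apply_symm_apply _
  refine ⟨i.trans e.mapIntegralClosure.toRingEquiv, fun r => ?_⟩
  show e.mapIntegralClosure (i ((Curv2.normalizationι X).app U r)) = _
  rw [happ]
  exact e.mapIntegralClosure.commutes r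

/-- The sections of the normalization over an affine open form an integrally closed domain. -/
theorem isIntegrallyClosed_sections {U : X.Opens} (hU : IsAffineOpen U) [Nonempty U] :
    IsDomain Γ(Curv2.normalization X, Curv2.normalizationι X ⁻¹ᵁ U) ∧
      IsIntegrallyClosed Γ(Curv2.normalization X, Curv2.normalizationι X ⁻¹ᵁ U) := by
  obtain ⟨φ, -⟩ := exists_sections_equiv X hU
  haveI := functionField_isFractionRing_of_isAffineOpen X U hU
  haveI : IsIntegrallyClosed (integralClosure Γ(X, U) X.functionField) :=
    integralClosure.isIntegrallyClosedOfFiniteExtension X.functionField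
  haveI : IsDomain Γ(Curv2.normalization X, Curv2.normalizationι X ⁻¹ᵁ U) :=
    MulEquiv.isDomain _ φ.toMulEquiv
  exact ⟨inferInstance, IsIntegrallyClosed.of_equiv (R := integralClosure Γ(X, U) X.functionField) φ.symm⟩

/-- Existence of an affine chart around a point of the normalization. -/
theorem exists_affine_chart (x' : ↥(Curv2.normalization X)) :
    ∃ U : X.Opens, IsAffineOpen U ∧ x' ∈ Curv2.normalizationι X ⁻¹ᵁ U := by
  obtain ⟨U, hU, hxU, -⟩ := exists_isAffineOpen_mem_and_subset
    (x := Curv2.normalizationι X x') (U := ⊤) trivial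
  exact ⟨U, hU, hxU⟩

/-- The normalization has normal local rings. -/
theorem isDomain_isIntegrallyClosed_stalk (x' : ↥(Curv2.normalization X)) :
    IsDomain ((Curv2.normalization X).presheaf.stalk x') ∧
      IsIntegrallyClosed ((Curv2.normalization X).presheaf.stalk x') := by
  obtain ⟨U, hU, hxU⟩ := exists_affine_chart X x'
  haveI : Nonempty U := ⟨⟨_, hxU⟩⟩
  obtain ⟨_, _⟩ := isIntegrallyClosed_sections X hU
  have hV := isAffineOpen_preimage X hU
  haveI := isIntegral X
  letI := (Curv2.normalization X).presheaf.algebra_section_stalk ⟨x', hxU⟩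
  haveI := hV.isLocalization_stalk ⟨x', hxU⟩
  exact ⟨inferInstance, isIntegrallyClosed_of_isLocalization _
    (hV.primeIdealOf ⟨x', hxU⟩).asIdeal.primeCompl (Ideal.primeCompl_le_nonZeroDivisors _)⟩

end Groth.Agent.Curv2Norm
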