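/-
The cokernel of `O_X ⟶ ν_* O_N` for the normalization of an integral scheme: stalks and lengths.
-/
import Groth.Prelude.Def_ClSub2
import Groth.Agent.PullStalk.Exact
import Groth.Agent.Curv2Norm.Basic
import Groth.Agent.RedNorm.Nagata
import Groth.Agent.NormUniv.Curv2
import Mathlib.RingTheory.Localization.Integral

set_option autoImplicit false
set_option backward.isDefEq.respectTransparency.types false
set_option linter.style.haveILetI false

universe u

open CategoryTheory CategoryTheory.Limits AlgebraicGeometry TopologicalSpace Opposite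

namespace Groth.Agent.Curv2Norm

open Groth.Agent.PullStalk.Sky Groth.Agent.PullStalk.Exact

/-- The stalk of a cokernel of a monomorphism of modules. -/
theorem exists_stalk_cokernel_equiv {X : Scheme.{u}} {M N : X.Modules} (φ : M ⟶ N) [Mono φ] (x : X) :
    Nonempty ((cokernel φ).presheaf.stalk x ≃ₗ[X.presheaf.stalk x]
      (N.presheaf.stalk x ⧸ LinearMap.range (stalkLin φ x))) := by
  have hS : (ShortComplex.mk φ (cokernel.π φ) (cokernel.condition φ)).ShortExact :=
    { exact := ShortComplex.exact_cokernel φ
      mono_f := inferInstance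
      epi_g := inferInstance }
  obtain ⟨-, h2, h3⟩ := stalk_exact hS x
  have hk : LinearMap.range (stalkLin φ x) = LinearMap.ker (stalkLin (cokernel.π φ) x) :=
    (LinearMap.exact_iff.mp h2).symm
  exact ⟨((Submodule.quotEquivOfEq _ _ hk).trans (LinearMap.quotKerEquivOfSurjective _ h3)).symm⟩

/-- Comparison of cokernels of the normalization in two models of the fraction field. -/
theorem length_quotient_eq_deltaInv (O : Type u) [CommRing O] (L : Type u) [CommRing L] [Algebra O L]
    [IsFractionRing O L] :
    Module.length O (integralClosure O L ⧸ LinearMap.range (Algebra.linearMap O (integralClosure O L))) =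
      Curv2.deltaInv O := by
  unfold Curv2.deltaInv
  let e := ((IsLocalization.algEquiv (nonZeroDivisors O) L (FractionRing O)).mapIntegralClosure).toLinearEquiv
  refine (Submodule.Quotient.equiv _ _ e ?_).length_eq
  rw [← LinearMap.range_comp]
  congr 1
  ext
  exact congrArg Subtype.val ((IsLocalization.algEquiv (nonZeroDivisors O) L (FractionRing O)).mapIntegralClosure.commutes 1)

variable (X : Scheme.{u}) [IsIntegral X] [QuasiCompact (X.fromSpecStalk (genericPoint X))]
  [QuasiSeparated (X.fromSpecStalk (genericPoint X))]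

/-- Sections of `X` inject into the sections of the normalization. -/
theorem app_injective (U : X.Opens) : Function.Injective ((Curv2.normalizationι X).app U) := by
  intro a b hab
  refine X.sheaf.eq_of_locally_eq' (fun V : {V : X.affineOpens // (V : X.Opens) ≤ U} => (V.1 : X.Opens)) U
    (fun V => homOfLE V.2) ?_ a b fun V => ?_
  · intro y hy
    obtain ⟨V, hV, hyV, hVU⟩ := exists_isAffineOpen_mem_and_subset (x := y) (U := U) hy
    exact Opens.mem_iSup.mpr ⟨⟨⟨V, hV⟩, hVU⟩, hyV⟩
  · rcases Set.eq_empty_or_nonempty ((V.1 : X.Opens) : Set X) with he | hne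
    · have hb : (V.1 : X.Opens) = ⊥ := Opens.ext he
      haveI : Subsingleton Γ(X, (V.1 : X.Opens)) := by
        rw [hb]; infer_instance
      exact Subsingleton.elim (α := Γ(X, (V.1 : X.Opens))) _ _
    · refine (NormUniv.normalizationι_frac X _ V.1.2 hne).1 ?_
      have hn := fun s => congr($((Curv2.normalizationι X).naturality (homOfLE V.2).op) s)
      exact (hn a).trans ((congrArg _ hab).trans (hn b).symm)

theorem mono_unitToPush : Mono (ClSub.unitToPush (Curv2.normalizationι X)) := by
  refine (Scheme.Modules.toPresheaf X).mono_of_mono_map ?_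
  haveI : ∀ U, Mono (((Scheme.Modules.toPresheaf X).map (ClSub.unitToPush (Curv2.normalizationι X))).app U) :=
    fun U => (AddCommGrpCat.mono_iff_injective _).mpr (app_injective X U.unop)
  exact NatTrans.mono_of_mono_app _

/-- The length of the cokernel at `x` is the δ-invariant of the local ring. -/
theorem length_stalk_cokernel (x : X) :
    Module.length (X.presheaf.stalk x)
        ((cokernel (ClSub.unitToPush (Curv2.normalizationι X))).presheaf.stalk x) =
      Curv2.deltaInv (X.presheaf.stalk x) := by
  haveI := mono_unitToPush X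
  haveI := isIntegral X
  set N := Curv2.normalization X with hNdef
  obtain ⟨U, hU, hxU, -⟩ := exists_isAffineOpen_mem_and_subset (x := x) (U := ⊤) trivial
  haveI : Nonempty U := ⟨⟨x, hxU⟩⟩
  obtain ⟨φ, hφ⟩ := exists_sections_equiv X hU
  haveI := functionField_isFractionRing_of_isAffineOpen X U hU
  obtain ⟨hinjU, hfracU⟩ := NormUniv.normalizationι_frac X U hU ⟨x, hxU⟩
  have hgen : ∀ {V : X.Opens}, x ∈ V → genericPoint N ∈ (Curv2.normalizationι X) ⁻¹ᵁ V := by
    intro V hV
    have hne : ((((Curv2.normalizationι X) ⁻¹ᵁ V : N.Opens)) : Set N).Nonempty := by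
      by_contra hcon
      rw [Set.not_nonempty_iff_eq_empty] at hcon
      haveI : Subsingleton Γ(N, (Curv2.normalizationι X) ⁻¹ᵁ V) := by
        rw [show ((Curv2.normalizationι X) ⁻¹ᵁ V : N.Opens) = ⊥ from Opens.ext hcon]; infer_instance
      haveI : Nonempty V := ⟨⟨x, hV⟩⟩
      exact one_ne_zero (α := Γ(X, V)) (app_injective X V (Subsingleton.elim _ _))
    obtain ⟨z, hz⟩ := hne
    exact (genericPoint_specializes z).mem_open (Curv2.normalizationι X ⁻¹ᵁ V).2 hz
  haveI : Nonempty ((Curv2.normalizationι X) ⁻¹ᵁ U : N.Opens) := ⟨⟨_, hgen hxU⟩⟩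
  -- the function field of the normalization as a fraction ring of the local ring
  have hsp : (Curv2.normalizationι X).base (genericPoint N) ⤳ x := by
    rw [specializes_iff_forall_open]
    intro s hs hxs
    exact hgen (V := ⟨s, hs⟩) hxs
  let j : X.presheaf.stalk x →+* N.functionField :=
    ((Curv2.normalizationι X).stalkMap (genericPoint N)).hom.comp (X.presheaf.stalkSpecializes hsp).hom
  have hj : ∀ (V : X.Opens) (hV : x ∈ V) (s : Γ(X, V)), j (X.presheaf.germ V x hV s) =
      N.presheaf.germ ((Curv2.normalizationι X) ⁻¹ᵁ V) (genericPoint N) (hgen hV) ((Curv2.normalizationι X).app V s) := by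
    intro V hV s
    show (Curv2.normalizationι X).stalkMap (genericPoint N) (X.presheaf.stalkSpecializes hsp (X.presheaf.germ V x hV s)) = _
    rw [TopCat.Presheaf.germ_stalkSpecializes_apply, Scheme.Hom.germ_stalkMap_apply]
  letI algO : Algebra (X.presheaf.stalk x) N.functionField := j.toAlgebra
  letI algUO : Algebra Γ(X, U) (X.presheaf.stalk x) := X.presheaf.algebra_section_stalk ⟨x, hxU⟩
  haveI := hU.isLocalization_stalk ⟨x, hxU⟩
  letI algUL : Algebra Γ(X, U) N.functionField := (j.comp (algebraMap Γ(X, U) (X.presheaf.stalk x))).toAlgebra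
  haveI : IsScalarTower Γ(X, U) (X.presheaf.stalk x) N.functionField := IsScalarTower.of_algebraMap_eq fun _ => rfl
  haveI hfracV := functionField_isFractionRing_of_isAffineOpen N _ (isAffineOpen_preimage X hU)
  have hUL : ∀ a, algebraMap Γ(X, U) N.functionField a =
      algebraMap Γ(N, (Curv2.normalizationι X) ⁻¹ᵁ U) N.functionField ((Curv2.normalizationι X).app U a) := fun a =>
    hj U hxU a
  haveI hfracUL : IsFractionRing Γ(X, U) N.functionField := by
    haveI : FaithfulSMul Γ(X, U) N.functionField := (faithfulSMul_iff_algebraMap_injective _ _).mpr fun a b h => by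
      rw [hUL, hUL] at h
      exact hinjU (IsFractionRing.injective _ _ h)
    refine IsFractionRing.of_field _ _ fun z => ?_
    obtain ⟨b, c, hc, rfl⟩ := IsFractionRing.div_surjective (A := Γ(N, (Curv2.normalizationι X) ⁻¹ᵁ U)) z
    obtain ⟨a₁, d₁, hd₁, h₁⟩ := hfracU b
    obtain ⟨a₂, d₂, hd₂, h₂⟩ := hfracU c
    refine ⟨a₁ * d₂, d₁ * a₂, ?_⟩
    have hne : ∀ d : Γ(X, U), d ≠ 0 → algebraMap Γ(N, (Curv2.normalizationι X) ⁻¹ᵁ U) N.functionField
        ((Curv2.normalizationι X).app U d) ≠ 0 := fun d hd h => hd (hinjU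
          ((IsFractionRing.injective _ N.functionField (h.trans (map_zero _).symm)).trans (map_zero _).symm))
    have hc' : algebraMap Γ(N, (Curv2.normalizationι X) ⁻¹ᵁ U) N.functionField c ≠ 0 := fun h =>
      nonZeroDivisors.ne_zero hc (IsFractionRing.injective _ N.functionField (h.trans (map_zero _).symm))
    rw [map_mul, map_mul, hUL, hUL, hUL, hUL, ← h₁, ← h₂, map_mul, map_mul]
    field_simp [hne d₁ hd₁, hne d₂ hd₂, hc']
  haveI : IsFractionRing (X.presheaf.stalk x) N.functionField :=
    IsFractionRing.isFractionRing_of_isDomain_of_isLocalization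
      (hU.primeIdealOf ⟨x, hxU⟩).asIdeal.primeCompl _ _
  -- sections are integral
  have hint : ∀ (V : X.Opens) (hV : x ∈ V) (s : Γ(N, (Curv2.normalizationι X) ⁻¹ᵁ V)),
      IsIntegral (X.presheaf.stalk x) (N.presheaf.germ _ (genericPoint N) (hgen hV) s) := by
    intro V hV s
    obtain ⟨W, hW, hxW, hWV⟩ := exists_isAffineOpen_mem_and_subset (x := x) (U := V) hV
    haveI : Nonempty W := ⟨⟨x, hxW⟩⟩
    haveI := isIntegralHom X
    rw [← N.presheaf.germ_res_apply (homOfLE ((Curv2.normalizationι X).preimage_mono hWV)) (genericPoint N)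
      (hgen hxW) s]
    letI : Algebra Γ(X, W) Γ(N, (Curv2.normalizationι X) ⁻¹ᵁ W) := ((Curv2.normalizationι X).app W).hom.toAlgebra
    exact (show IsIntegral Γ(X, W) (N.presheaf.map (homOfLE ((Curv2.normalizationι X).preimage_mono hWV)).op s) from
        IsIntegralHom.isIntegral_app (Curv2.normalizationι X) W hW _).map_of_comp_eq
      (X.presheaf.germ W x hxW).hom (N.presheaf.germ _ (genericPoint N) (hgen hxW)).hom
      (RingHom.ext fun a => hj W hxW a)
  -- the comparison on stalks
  let P := (Scheme.Modules.pushforward (Curv2.normalizationι X)).obj (Coh.structureModule N)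
  let T₀ : P.presheaf.stalk x ⟶ AddCommGrpCat.of N.functionField :=
    colimit.desc _
      { pt := AddCommGrpCat.of N.functionField
        ι :=
          { app := fun V => AddCommGrpCat.ofHom
              (N.presheaf.germ ((Curv2.normalizationι X) ⁻¹ᵁ V.unop.1) (genericPoint N) (hgen V.unop.2)).hom.toAddMonoidHom
            naturality := fun V W i => by
              ext s
              exact N.presheaf.germ_res_apply _ (genericPoint N) (hgen W.unop.2) s } }
  have hT₀ : ∀ (V : X.Opens) (hV : x ∈ V) (s : Γ(N, (Curv2.normalizationι X) ⁻¹ᵁ V)),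
      T₀ (germM P V x hV s) = N.presheaf.germ _ (genericPoint N) (hgen hV) s := fun V hV s => by
    simp only [T₀, germM, TopCat.Presheaf.germ]
    exact ConcreteCategory.congr_hom (colimit.ι_desc (F := (OpenNhds.inclusion x).op ⋙ P.presheaf) _
      (op (⟨V, hV⟩ : OpenNhds x))) s
  let T : P.presheaf.stalk x →ₗ[X.presheaf.stalk x] N.functionField :=
    { toFun := T₀
      map_add' := map_add T₀.hom
      map_smul' := fun r t => by
        obtain ⟨V, hxV, m, rfl⟩ := exists_germM_eq P x t
        obtain ⟨W, hxW, r, rfl⟩ := X.presheaf.exists_germ_eq (x := x) r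
        have hVW : x ∈ V ⊓ W := ⟨hxV, hxW⟩
        rw [← X.presheaf.germ_res_apply (homOfLE (inf_le_right : V ⊓ W ≤ W)) x hVW r,
          show germM P V x hxV m = germM P (V ⊓ W) x hVW (P.presheaf.map (homOfLE (inf_le_left : V ⊓ W ≤ V)).op m)
            from (P.presheaf.germ_res_apply (homOfLE (inf_le_left : V ⊓ W ≤ V)) x hVW m).symm,
          ← germM_smul, RingHom.id_apply, Algebra.smul_def]
        refine (hT₀ _ _ _).trans ?_
        rw [RingHom.algebraMap_toAlgebra, hj]
        refine Eq.trans ?_ (congrArg _ (hT₀ _ _ _).symm)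
        exact map_mul (N.presheaf.germ _ (genericPoint N) (hgen hVW)).hom _ _ }
  have hTinj : Function.Injective T := by
    rw [← LinearMap.ker_eq_bot, eq_bot_iff]
    intro t ht
    obtain ⟨V, hxV, m, rfl⟩ := exists_germM_eq P x t
    have h0 : N.presheaf.germ _ (genericPoint N) (hgen hxV) m = 0 := (hT₀ V hxV m).symm.trans ht
    haveI : Nonempty ((Curv2.normalizationι X) ⁻¹ᵁ V : N.Opens) := ⟨⟨_, hgen hxV⟩⟩
    have hm : m = 0 := germ_injective_of_isIntegral N (genericPoint N) (hgen hxV) (h0.trans (map_zero _).symm)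
    rw [Submodule.mem_bot, hm]
    exact map_zero (P.presheaf.germ V x hxV).hom
  have hTrange : LinearMap.range T = Subalgebra.toSubmodule (integralClosure (X.presheaf.stalk x) N.functionField) := by
    apply le_antisymm
    · rintro _ ⟨t, rfl⟩
      obtain ⟨V, hxV, m, rfl⟩ := exists_germM_eq P x t
      show IsIntegral _ (T₀ (germM P V x hxV m))
      rw [hT₀]
      exact hint V hxV m
    · intro y hy
      obtain ⟨⟨d, hd⟩, hdy⟩ := (hy : IsIntegral (X.presheaf.stalk x) y).exists_multiple_integral_of_isLocalization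
        (hU.primeIdealOf ⟨x, hxU⟩).asIdeal.primeCompl
      obtain ⟨b, hb⟩ : ∃ b, algebraMap Γ(N, (Curv2.normalizationι X) ⁻¹ᵁ U) N.functionField b = d • y := by
        obtain ⟨hD, hI⟩ := isIntegrallyClosed_sections X hU
        haveI := hD
        haveI := hI
        exact (IsIntegrallyClosed.isIntegral_iff).mp (hdy.map_of_comp_eq ((Curv2.normalizationι X).app U).hom
          (RingHom.id N.functionField) (RingHom.ext fun a => (hUL a).symm))
      have hxD : x ∈ X.basicOpen d := (X.mem_basicOpen d x hxU).mpr
        (IsLocalization.map_units (X.presheaf.stalk x) (⟨d, hd⟩ : (hU.primeIdealOf ⟨x, hxU⟩).asIdeal.primeCompl))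
      have hDU := X.basicOpen_le d
      have hu : IsUnit ((Curv2.normalizationι X).app (X.basicOpen d) (X.presheaf.map (homOfLE hDU).op d)) :=
        (RingedSpace.isUnit_res_basicOpen _ d).map ((Curv2.normalizationι X).app (X.basicOpen d)).hom
      obtain ⟨w, hw⟩ := hu.exists_right_inv
      refine ⟨germM P (X.basicOpen d) x hxD
        (w * N.presheaf.map (homOfLE ((Curv2.normalizationι X).preimage_mono hDU)).op b), ?_⟩
      refine (hT₀ _ _ _).trans ?_
      have hd' : algebraMap Γ(X, U) N.functionField d =
          N.presheaf.germ _ (genericPoint N) (hgen hxD)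
            ((Curv2.normalizationι X).app (X.basicOpen d) (X.presheaf.map (homOfLE hDU).op d)) := by
        refine Eq.trans ?_ (hj (X.basicOpen d) hxD _)
        rw [X.presheaf.germ_res_apply]
        rfl
      rw [map_mul, N.presheaf.germ_res_apply]
      refine Eq.trans (congrArg (_ * ·) hb) ?_
      rw [Algebra.smul_def, hd', ← mul_assoc, ← map_mul, mul_comm w, hw, map_one, one_mul]
  obtain ⟨e⟩ := exists_stalk_cokernel_equiv (ClSub.unitToPush (Curv2.normalizationι X)) x
  rw [e.length_eq, ← length_quotient_eq_deltaInv (X.presheaf.stalk x) N.functionField]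
  let E : P.presheaf.stalk x ≃ₗ[X.presheaf.stalk x] integralClosure (X.presheaf.stalk x) N.functionField :=
    (LinearEquiv.ofInjective T hTinj).trans (LinearEquiv.ofEq _ _ hTrange)
  refine (Submodule.Quotient.equiv _ _ E ?_).length_eq
  have hE : ∀ (V : X.Opens) (hV : x ∈ V) (s : Γ(X, V)),
      E (stalkLin (ClSub.unitToPush (Curv2.normalizationι X)) x (germM (Coh.structureModule X) V x hV s)) =
        algebraMap (X.presheaf.stalk x) _ (X.presheaf.germ V x hV s) := fun V hV s => by
    apply Subtype.ext
    show T₀ _ = j (X.presheaf.germ V x hV s)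
    rw [stalkLin_germ, hj]
    exact hT₀ V hV _
  ext y
  constructor
  · rintro ⟨_, ⟨t, rfl⟩, rfl⟩
    obtain ⟨V, hV, s, rfl⟩ := exists_germM_eq (Coh.structureModule X) x t
    exact ⟨_, (hE V hV s).symm⟩
  · rintro ⟨r, rfl⟩
    obtain ⟨V, hV, s, rfl⟩ := X.presheaf.exists_germ_eq (x := x) r
    exact ⟨_, ⟨germM (Coh.structureModule X) V x hV s, rfl⟩, hE V hV s⟩

end Groth.Agent.Curv2Norm
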