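/-
A finite normalization of an integral scheme is birational.
-/
import Groth.Agent.Curv2Norm.Coker
import Mathlib.AlgebraicGeometry.Morphisms.Finite

set_option autoImplicit false
set_option backward.isDefEq.respectTransparency.types false
set_option linter.style.haveILetI false

universe u

open CategoryTheory CategoryTheory.Limits AlgebraicGeometry TopologicalSpace Opposite

namespace Groth.Agent.Curv2Norm

variable (X : Scheme.{u}) [IsIntegral X] [QuasiCompact (X.fromSpecStalk (genericPoint X))]
  [QuasiSeparated (X.fromSpecStalk (genericPoint X))]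

/-- A finite normalization is an isomorphism over a dense open. -/
theorem exists_dense_isIso [IsFinite (Curv2.normalizationι X)] :
    ∃ U : X.Opens, Dense ((U : Set X)) ∧ IsIso (Curv2.normalizationι X ∣_ U) := by
  classical
  obtain ⟨U, hU, hηU, -⟩ := exists_isAffineOpen_mem_and_subset (x := genericPoint X) (U := ⊤) trivial
  haveI : Nonempty U := ⟨⟨_, hηU⟩⟩
  set ν := Curv2.normalizationι X
  obtain ⟨hinj, hfrac⟩ := NormUniv.normalizationι_frac X U hU ⟨_, hηU⟩
  have hf : (ν.app U).hom.Finite := IsFinite.finite_app ν U hU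
  letI algAB := (ν.app U).hom.toAlgebra
  haveI : Module.Finite Γ(X, U) Γ(Curv2.normalization X, ν ⁻¹ᵁ U) := hf
  obtain ⟨t, ht⟩ := Module.Finite.fg_top (R := Γ(X, U)) (M := Γ(Curv2.normalization X, ν ⁻¹ᵁ U))
  choose a b hb hab using hfrac
  set d := ∏ i ∈ t, b i with hd
  have hd0 : d ≠ 0 := Finset.prod_ne_zero_iff.mpr fun i _ => hb i
  have hdB : ∀ y, ∃ c, ν.app U d * y = ν.app U c := fun y => by
    have hy : y ∈ Submodule.span Γ(X, U) (t : Set Γ(Curv2.normalization X, ν ⁻¹ᵁ U)) := ht ▸ Submodule.mem_top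
    induction hy using Submodule.span_induction with
    | mem i hi =>
      refine ⟨(∏ j ∈ t.erase i, b j) * a i, ?_⟩
      rw [hd, ← Finset.prod_erase_mul t b hi, map_mul, map_mul, mul_assoc, hab]
    | zero => exact ⟨0, by rw [mul_zero, map_zero]⟩
    | add u v _ _ hu hv =>
      obtain ⟨c, hc⟩ := hu
      obtain ⟨c', hc'⟩ := hv
      exact ⟨c + c', by rw [mul_add, hc, hc', map_add]⟩
    | smul r u _ hu =>
      obtain ⟨c, hc⟩ := hu
      exact ⟨r * c, by rw [Algebra.smul_def, map_mul, ← hc]; exact mul_left_comm _ _ _⟩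
  refine ⟨X.basicOpen d, (X.basicOpen d).2.dense ?_, ?_⟩
  · refine ⟨genericPoint X, (X.mem_basicOpen d _ hηU).mpr ?_⟩
    exact isUnit_iff_ne_zero.mpr (fun h => hd0 (germ_injective_of_isIntegral X _ hηU (h.trans (map_zero _).symm)) :
      (X.presheaf.germ U (genericPoint X) hηU d : X.functionField) ≠ 0)
  · rw [isIso_morphismRestrict_iff_isIso_app _ (hU.basicOpen d)]
    rw [ConcreteCategory.isIso_iff_bijective]
    refine ⟨Curv2Norm.app_injective X _, fun y => ?_⟩
    letI algA : Algebra Γ(X, U) Γ(X, X.basicOpen d) := (X.presheaf.map (homOfLE (X.basicOpen_le d)).op).hom.toAlgebra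
    haveI : IsLocalization.Away d Γ(X, X.basicOpen d) := hU.isLocalization_basicOpen d
    have hV := hU.preimage ν
    letI algB : Algebra Γ(Curv2.normalization X, ν ⁻¹ᵁ U) Γ(Curv2.normalization X, (Curv2.normalization X).basicOpen (ν.app U d)) :=
      ((Curv2.normalization X).presheaf.map (homOfLE ((Curv2.normalization X).basicOpen_le _)).op).hom.toAlgebra
    haveI : IsLocalization.Away (ν.app U d) Γ(Curv2.normalization X, (Curv2.normalization X).basicOpen (ν.app U d)) :=
      hV.isLocalization_basicOpen _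
    have he : ν ⁻¹ᵁ X.basicOpen d = (Curv2.normalization X).basicOpen (ν.app U d) := Scheme.preimage_basicOpen ν d
    obtain ⟨⟨z, _, n, rfl⟩, hz⟩ := IsLocalization.surj (Submonoid.powers (ν.app U d))
      ((Curv2.normalization X).presheaf.map (eqToHom he.symm).op y)
    obtain ⟨c, hc⟩ := hdB z
    have hu : IsUnit (algebraMap Γ(X, U) Γ(X, X.basicOpen d) (d ^ (n + 1))) :=
      IsLocalization.map_units _ (⟨d ^ (n + 1), n + 1, rfl⟩ : Submonoid.powers d)
    obtain ⟨v, hv⟩ := hu.exists_right_inv
    refine ⟨algebraMap Γ(X, U) Γ(X, X.basicOpen d) c * v, ?_⟩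
    have happ : ∀ r, ν.app (X.basicOpen d) (algebraMap Γ(X, U) Γ(X, X.basicOpen d) r) =
        (Curv2.normalization X).presheaf.map (homOfLE (ν.preimage_mono (X.basicOpen_le d))).op (ν.app U r) :=
      fun r => congr($(ν.naturality (homOfLE (X.basicOpen_le d)).op) r)
    have hres : ∀ r, (Curv2.normalization X).presheaf.map (eqToHom he).op
        (algebraMap Γ(Curv2.normalization X, ν ⁻¹ᵁ U) Γ(Curv2.normalization X, (Curv2.normalization X).basicOpen (ν.app U d)) r) =
        (Curv2.normalization X).presheaf.map (homOfLE (ν.preimage_mono (X.basicOpen_le d))).op r := fun r => by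
      rw [RingHom.algebraMap_toAlgebra, ← CommRingCat.comp_apply, ← Functor.map_comp]
      rfl
    have hz2 := congrArg ((Curv2.normalization X).presheaf.map (eqToHom he).op).hom hz
    rw [map_mul, hres, hres, ← CommRingCat.comp_apply, ← Functor.map_comp, ← op_comp, eqToHom_trans, eqToHom_refl,
      op_id, CategoryTheory.Functor.map_id, CommRingCat.id_apply] at hz2
    have hu2 : IsUnit (ν.app (X.basicOpen d) (algebraMap Γ(X, U) Γ(X, X.basicOpen d) (d ^ (n + 1)))) :=
      hu.map (ν.app (X.basicOpen d)).hom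
    apply hu2.mul_left_cancel
    rw [← map_mul, ← mul_assoc, mul_comm (algebraMap Γ(X, U) Γ(X, X.basicOpen d) (d ^ (n + 1))), mul_assoc, hv,
      mul_one, happ, happ, map_pow, pow_succ, ← hc, map_mul, map_mul, ← hz2]
    simp only [map_pow]
    ring

/-- The normalization morphism is dominant. -/
theorem isDominant : IsDominant (Curv2.normalizationι X) := by
  obtain ⟨U, hU, hηU, -⟩ := exists_isAffineOpen_mem_and_subset (x := genericPoint X) (U := ⊤) trivial
  refine ⟨?_⟩
  have hsurj : genericPoint X ∈ closure (Set.range (Curv2.normalizationι X).base) := by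
    rw [mem_closure_iff]
    intro o ho hη
    by_contra hcon
    rw [Set.not_nonempty_iff_eq_empty] at hcon
    have he : (Curv2.normalizationι X) ⁻¹ᵁ ⟨o, ho⟩ = ⊥ := by
      refine Opens.ext (Set.eq_empty_iff_forall_notMem.mpr fun z hz => ?_)
      exact (hcon ▸ ⟨hz, Set.mem_range_self z⟩ : (Curv2.normalizationι X).base z ∈ (∅ : Set X))
    haveI : Nonempty (⟨o, ho⟩ : X.Opens) := ⟨⟨_, hη⟩⟩
    haveI : Subsingleton Γ(Curv2.normalization X, (Curv2.normalizationι X) ⁻¹ᵁ ⟨o, ho⟩) := by
      rw [he]; infer_instance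
    exact one_ne_zero (α := Γ(X, ⟨o, ho⟩)) (app_injective X _ (Subsingleton.elim _ _))
  intro z
  exact ((genericPoint_specializes z).mem_closed isClosed_closure hsurj :)

end Groth.Agent.Curv2Norm
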