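/-
The normalization of a one-dimensional integral locally Noetherian scheme (Krull–Akizuki).
-/
import Groth.Agent.Curv2Norm.Basic
import Groth.Agent.OneDim.KrullAkizuki
import Groth.Agent.VarDim.Scheme
import Mathlib.RingTheory.DedekindDomain.Basic

set_option autoImplicit false
set_option backward.isDefEq.respectTransparency.types false
set_option linter.style.haveILetI false

universe u

open CategoryTheory AlgebraicGeometry TopologicalSpace

namespace Groth.Agent.Curv2Norm

section General

variable {Y : Scheme.{u}} {U : Y.Opens} (hU : IsAffineOpen U)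

include hU in
theorem evaluation_eq_zero_iff (x : Y) (hx : x ∈ U) (a : Γ(Y, U)) :
    Y.evaluation U x hx a = 0 ↔ a ∈ (hU.primeIdealOf ⟨x, hx⟩).asIdeal := by
  letI := TopCat.Presheaf.algebra_section_stalk Y.presheaf ⟨x, hx⟩
  haveI := hU.isLocalization_stalk ⟨x, hx⟩
  rw [← IsLocalization.AtPrime.to_map_mem_maximal_iff (Y.presheaf.stalk x)
    (hU.primeIdealOf ⟨x, hx⟩).asIdeal a]
  exact Ideal.Quotient.eq_zero_iff_mem

include hU in
theorem exists_evaluation_mul_eq (x : Y) (hx : x ∈ U) (z : Y.residueField x) :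
    ∃ a s : Γ(Y, U), s ∉ (hU.primeIdealOf ⟨x, hx⟩).asIdeal ∧
      z * Y.evaluation U x hx s = Y.evaluation U x hx a := by
  letI := TopCat.Presheaf.algebra_section_stalk Y.presheaf ⟨x, hx⟩
  haveI := hU.isLocalization_stalk ⟨x, hx⟩
  obtain ⟨w, rfl⟩ := Y.residue_surjective x z
  obtain ⟨⟨a, s⟩, h⟩ := IsLocalization.surj (hU.primeIdealOf ⟨x, hx⟩).asIdeal.primeCompl w
  exact ⟨a, s, s.2, ((Y.residue x).hom.map_mul _ _).symm.trans (congrArg (Y.residue x).hom h)⟩

/-- Sections over affine opens of a locally Noetherian scheme of dimension at most one. -/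
theorem krullDimLE_sections {n : ℕ} (hdim : topologicalKrullDim Y ≤ n) {V : Y.Opens} (hV : IsAffineOpen V) :
    Ring.KrullDimLE n Γ(Y, V) := by
  refine Ring.krullDimLE_iff.mpr ?_
  rw [← PrimeSpectrum.topologicalKrullDim_eq_ringKrullDim]
  exact (hV.fromSpec.isOpenEmbedding.isInducing.topologicalKrullDim_le).trans hdim

/-- A module generated modulo `aB` by finitely many elements stays so after a map killing `a`. -/
theorem exists_finset_span {A B C κ L : Type u} [CommRing A] [CommRing B] [Algebra A B] [CommRing C]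
    [CommRing κ] [CommRing L] [Algebra κ L] (e : B ≃+* C) {a : A}
    (h : IsNoetherian A (B ⧸ LinearMap.range (LinearMap.lsmul A B a))) (χ : A →+* κ) (ψ : C →+* L)
    (ha : χ a = 0) (hψ : ∀ r, ψ (e (algebraMap A B r)) = algebraMap κ L (χ r)) :
    ∃ t : Finset C, ∀ c, ψ c ∈ Submodule.span κ (ψ '' (t : Set C)) := by
  classical
  obtain ⟨t, ht⟩ := h.noetherian ⊤
  choose g hg using fun q : B ⧸ LinearMap.range (LinearMap.lsmul A B a) => Submodule.Quotient.mk_surjective _ q
  refine ⟨t.image fun q => e (g q), fun c => ?_⟩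
  obtain ⟨y, rfl⟩ := e.surjective c
  let Q : Submodule A B :=
    { carrier := {y | ψ (e y) ∈ Submodule.span κ (ψ '' ((t.image fun q => e (g q) : Finset C) : Set C))}
      add_mem' := fun {u v} hu hv => by
        simpa only [Set.mem_setOf_eq, map_add] using Submodule.add_mem _ hu hv
      zero_mem' := by simp only [Set.mem_setOf_eq, map_zero]; exact Submodule.zero_mem _
      smul_mem' := fun r u hu => by
        simp only [Set.mem_setOf_eq, Algebra.smul_def, map_mul, hψ] at hu ⊢
        rw [← Algebra.smul_def]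
        exact Submodule.smul_mem _ _ hu }
  have hR : LinearMap.range (LinearMap.lsmul A B a) ≤ Q := by
    rintro _ ⟨w, rfl⟩
    show ψ (e (a • w)) ∈ Submodule.span κ _
    rw [Algebra.smul_def, map_mul, map_mul, hψ, ha, map_zero, zero_mul]
    exact Submodule.zero_mem _
  have hsub : Submodule.span A (t : Set _) ≤ Q.map (LinearMap.range (LinearMap.lsmul A B a)).mkQ :=
    Submodule.span_le.mpr fun q hq => ⟨g q, Submodule.subset_span ⟨_, Finset.mem_image_of_mem _ hq, rfl⟩, hg q⟩
  rw [ht] at hsub
  obtain ⟨y', hy', he⟩ := hsub (Submodule.mem_top (x := Submodule.Quotient.mk y))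
  have hd : y - y' ∈ Q := hR ((Submodule.Quotient.eq _).mp he.symm)
  have := Q.add_mem hd hy'
  rwa [sub_add_cancel] at this

/-- A field of fractions of an image contained in a finite span is finite. -/
theorem finite_of_span_of_frac {C κ L : Type u} [CommRing C] [Field κ] [Field L] [Algebra κ L]
    (ψ : C →+* L) (t : Finset C) (ht : ∀ c, ψ c ∈ Submodule.span κ (ψ '' (t : Set C)))
    (hfrac : ∀ z, ∃ b s, ψ s ≠ 0 ∧ z * ψ s = ψ b) : Module.Finite κ L := by
  let A := Algebra.adjoin κ (Set.range ψ)
  have hA : Subalgebra.toSubmodule A = Submodule.span κ (ψ '' (t : Set C)) := by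
    rw [Algebra.adjoin_eq_span]
    refine le_antisymm (Submodule.span_le.mpr ?_)
      (Submodule.span_mono ((Set.image_subset_range _ _).trans Submonoid.subset_closure))
    intro z hz
    have h2 : Submonoid.closure (Set.range ψ) ≤ MonoidHom.mrange (ψ : C →* L) :=
      Submonoid.closure_le.mpr fun _ h => h
    obtain ⟨c, rfl⟩ := h2 hz
    exact ht c
  haveI : Module.Finite κ A :=
    (Module.Finite.iff_fg (N := Subalgebra.toSubmodule A)).mpr (by rw [hA]; exact Submodule.fg_span ((t.finite_toSet).image _))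
  have hfield : IsField A := isField_of_isIntegral_of_isField' (R := κ) (Field.toIsField _)
  have htop : A = ⊤ := by
    rw [eq_top_iff]
    intro z _
    obtain ⟨b, s, hs0, hz⟩ := hfrac z
    obtain ⟨w, hw⟩ := hfield.mul_inv_cancel (a := ⟨_, Algebra.subset_adjoin ⟨s, rfl⟩⟩)
      (fun h => hs0 (congrArg Subtype.val h))
    have hw' : ψ s * w.1 = 1 := congrArg Subtype.val hw
    rw [show z = ψ b * w.1 by rw [← hz, mul_assoc, hw', mul_one]]
    exact A.mul_mem (Algebra.subset_adjoin ⟨b, rfl⟩) w.2
  refine ⟨?_⟩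
  rw [← Algebra.top_toSubmodule, ← htop, hA]
  exact Submodule.fg_span ((t.finite_toSet).image _)

end General

variable (X : Scheme.{u}) [IsIntegral X] [QuasiCompact (X.fromSpecStalk (genericPoint X))]
  [QuasiSeparated (X.fromSpecStalk (genericPoint X))]

variable [IsLocallyNoetherian X] (hdim : topologicalKrullDim X = 1)

include hdim in
theorem isNoetherianRing_sections {U : X.Opens} (hU : IsAffineOpen U) [Nonempty U] :
    IsNoetherianRing Γ(Curv2.normalization X, Curv2.normalizationι X ⁻¹ᵁ U) ∧
      Ring.DimensionLEOne Γ(Curv2.normalization X, Curv2.normalizationι X ⁻¹ᵁ U) := by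
  obtain ⟨φ, -⟩ := exists_sections_equiv X hU
  haveI := functionField_isFractionRing_of_isAffineOpen X U hU
  haveI : IsNoetherianRing Γ(X, U) := IsLocallyNoetherian.component_noetherian ⟨U, hU⟩
  haveI := krullDimLE_sections (n := 1) (by exact_mod_cast hdim.le) hU
  haveI hN := OneDim.isNoetherianRing_subalgebra (integralClosure Γ(X, U) X.functionField)
  haveI hD := OneDim.dimensionLEOne_subalgebra (integralClosure Γ(X, U) X.functionField)
  refine ⟨isNoetherianRing_of_ringEquiv _ φ.symm, ⟨fun {P} hP0 hP => ?_⟩⟩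
  haveI := hP
  haveI hQ : (P.comap φ.symm).IsPrime := Ideal.comap_isPrime _ _
  have hm : (P.comap φ.symm).IsMaximal := hD.maximalOfPrime (fun h => hP0 (by
    rw [← Ideal.map_comap_of_surjective φ.symm φ.symm.surjective P, h, Ideal.map_bot])) hQ
  exact (Ideal.isMaximal_comap_iff_of_bijective φ.symm φ.symm.bijective).mp hm

include hdim in
theorem isLocallyNoetherian : IsLocallyNoetherian (Curv2.normalization X) := by
  let S := fun U : {U : X.affineOpens // Nonempty (U : X.Opens)} =>
    (⟨_, isAffineOpen_preimage X U.1.2⟩ : (Curv2.normalization X).affineOpens)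
  refine isLocallyNoetherian_of_affine_cover (S := S) ?_ fun U => ?_
  · rw [eq_top_iff]
    intro x' _
    obtain ⟨U, hU, hxU⟩ := exists_affine_chart X x'
    exact Opens.mem_iSup.mpr ⟨⟨⟨U, hU⟩, ⟨⟨_, hxU⟩⟩⟩, hxU⟩
  · haveI := U.2
    exact (isNoetherianRing_sections X hdim U.1.2).1

include hdim in
theorem isDedekindDomain_sections {V : (Curv2.normalization X).Opens} (hV : IsAffineOpen V)
    (hne : (V : Set ↥(Curv2.normalization X)).Nonempty) : IsDedekindDomain Γ(Curv2.normalization X, V) := by
  haveI := isIntegral X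
  haveI := isLocallyNoetherian X hdim
  haveI : Nonempty V := hne.to_subtype
  haveI : IsNoetherianRing Γ(Curv2.normalization X, V) := IsLocallyNoetherian.component_noetherian ⟨V, hV⟩
  have hloc : ∀ (P : Ideal Γ(Curv2.normalization X, V)) [P.IsPrime],
      IsIntegrallyClosed (Localization.AtPrime P) ∧ Ring.DimensionLEOne (Localization.AtPrime P) := by
    intro P hP
    obtain ⟨y, hy, he⟩ : ∃ (y : ↥(Curv2.normalization X)) (hy : y ∈ V), hV.primeIdealOf ⟨y, hy⟩ = ⟨P, hP⟩ := by
      have hy : hV.fromSpec ⟨P, hP⟩ ∈ V := by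
        have : hV.fromSpec ⟨P, hP⟩ ∈ Set.range hV.fromSpec := ⟨_, rfl⟩
        rwa [hV.range_fromSpec] at this
      exact ⟨_, hy, hV.fromSpec.isOpenEmbedding.injective (hV.fromSpec_primeIdealOf ⟨_, hy⟩)⟩
    obtain ⟨U, hU, hyU⟩ := exists_affine_chart X y
    haveI : Nonempty U := ⟨⟨_, hyU⟩⟩
    obtain ⟨_, hdim'⟩ := isNoetherianRing_sections X hdim hU
    obtain ⟨_, hic⟩ := isDomain_isIntegrallyClosed_stalk X y
    have hW := isAffineOpen_preimage X hU
    letI := (Curv2.normalization X).presheaf.algebra_section_stalk ⟨y, hyU⟩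
    haveI := hW.isLocalization_stalk ⟨y, hyU⟩
    obtain ⟨_, _⟩ := isIntegrallyClosed_sections X hU
    have hd : Ring.DimensionLEOne ((Curv2.normalization X).presheaf.stalk y) :=
      Ring.DimensionLEOne.localization _ (Ideal.primeCompl_le_nonZeroDivisors (hW.primeIdealOf ⟨y, hyU⟩).asIdeal)
    letI := (Curv2.normalization X).presheaf.algebra_section_stalk ⟨y, hy⟩
    haveI hl := hV.isLocalization_stalk ⟨y, hy⟩
    rw [he] at hl
    haveI := hl
    let e : (Curv2.normalization X).presheaf.stalk y ≃+* Localization.AtPrime P :=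
      (IsLocalization.algEquiv P.primeCompl _ _).toRingEquiv
    refine ⟨IsIntegrallyClosed.of_equiv (R := (Curv2.normalization X).presheaf.stalk y) e, ⟨fun {Q} hQ0 hQ => ?_⟩⟩
    haveI := hQ
    haveI hQ' : (Q.comap e).IsPrime := Ideal.comap_isPrime _ _
    have hm : (Q.comap e).IsMaximal := hd.maximalOfPrime (fun h => hQ0 (by
      rw [← Ideal.map_comap_of_surjective e e.surjective Q, h, Ideal.map_bot])) hQ'
    exact (Ideal.isMaximal_comap_iff_of_bijective e e.bijective).mp hm
  haveI : IsIntegrallyClosed Γ(Curv2.normalization X, V) :=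
    IsIntegrallyClosed.of_localization_maximal fun P _ hP => by
      haveI := hP
      exact (hloc P).1
  haveI : Ring.DimensionLEOne Γ(Curv2.normalization X, V) := ⟨fun {p} hp0 hp => by
    obtain ⟨M, hM, hle⟩ := Ideal.exists_le_maximal p hp.ne_top
    haveI := hp
    haveI := hM.isPrime
    have hd := (hloc M).2
    have hdisj : Disjoint (M.primeCompl : Set Γ(Curv2.normalization X, V)) p :=
      Set.disjoint_left.mpr fun a ha ha' => ha (hle ha')
    have hq := IsLocalization.isPrime_of_isPrime_disjoint M.primeCompl (Localization.AtPrime M) p hp hdisj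
    have hcomap := IsLocalization.comap_map_of_isPrime_disjoint M.primeCompl (Localization.AtPrime M) hp hdisj
    have hne : p.map (algebraMap _ (Localization.AtPrime M)) ≠ ⊥ := fun h => hp0 (by
      rw [← hcomap, h]
      exact Ideal.comap_bot_of_injective _ (IsLocalization.injective _ (Ideal.primeCompl_le_nonZeroDivisors M)))
    have hmax := IsLocalRing.eq_maximalIdeal (hd.maximalOfPrime hne hq)
    rw [hmax, IsLocalization.AtPrime.comap_maximalIdeal (Localization.AtPrime M) M] at hcomap
    exact hcomap ▸ hM⟩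
  haveI : IsDedekindRing Γ(Curv2.normalization X, V) := { }
  exact { }

include hdim in
/-- The normalization has finite fibres and finite residue field extensions. -/
theorem finite_fibre_and_residueField (x' : ↥(Curv2.normalization X)) :
    Finite {z : ↥(Curv2.normalization X) //
        (Curv2.normalizationι X).base z = (Curv2.normalizationι X).base x'} ∧
      (letI := ((Curv2.normalizationι X).residueFieldMap x').hom.toAlgebra
       Module.Finite (X.residueField ((Curv2.normalizationι X).base x'))
        ((Curv2.normalization X).residueField x')) := by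
  obtain ⟨U, hU, hxU⟩ := exists_affine_chart X x'
  haveI : Nonempty U := ⟨⟨_, hxU⟩⟩
  set ν := Curv2.normalizationι X
  have hV := isAffineOpen_preimage X hU
  haveI := isIntegral X
  haveI : Nonempty (ν ⁻¹ᵁ U : (Curv2.normalization X).Opens) := ⟨⟨x', hxU⟩⟩
  obtain ⟨φ, hφ⟩ := exists_sections_equiv X hU
  haveI := functionField_isFractionRing_of_isAffineOpen X U hU
  haveI : IsNoetherianRing Γ(X, U) := IsLocallyNoetherian.component_noetherian ⟨U, hU⟩
  haveI := krullDimLE_sections (n := 1) (by exact_mod_cast hdim.le) hU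
  obtain ⟨hN, hD⟩ := isNoetherianRing_sections X hdim hU
  set p := (hU.primeIdealOf ⟨ν.base x', hxU⟩).asIdeal
  have hP : ∀ (z : ↥(Curv2.normalization X)) (hz : ν.base z ∈ U) (a : Γ(X, U)),
      ν.app U a ∈ (hV.primeIdealOf ⟨z, hz⟩).asIdeal ↔ a ∈ (hU.primeIdealOf ⟨ν.base z, hz⟩).asIdeal := by
    intro z hz a
    rw [← evaluation_eq_zero_iff hU _ hz a, ← evaluation_eq_zero_iff hV z hz,
      ← Scheme.evaluation_naturality_apply]
    exact map_eq_zero_iff _ (RingHom.injective _)
  have hfrac : ∀ b : Γ(Curv2.normalization X, ν ⁻¹ᵁ U), ∃ c d : Γ(X, U), d ≠ 0 ∧ ν.app U d * b = ν.app U c := by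
    intro b
    obtain ⟨c, d, hd, hcd⟩ := IsFractionRing.div_surjective (A := Γ(X, U)) (φ b).1
    refine ⟨c, d, nonZeroDivisors.ne_zero hd, φ.injective (Subtype.ext ?_)⟩
    rw [map_mul, hφ, hφ]
    show algebraMap Γ(X, U) X.functionField d * (φ b).1 = algebraMap Γ(X, U) X.functionField c
    rw [← hcd, mul_div_cancel₀]
    exact fun h => nonZeroDivisors.ne_zero hd (IsFractionRing.injective _ X.functionField (h.trans (map_zero _).symm))
  have hgen : ∃ t : Finset Γ(Curv2.normalization X, ν ⁻¹ᵁ U), ∀ b : Γ(Curv2.normalization X, ν ⁻¹ᵁ U),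
      letI := (ν.residueFieldMap x').hom.toAlgebra
      (Curv2.normalization X).evaluation (ν ⁻¹ᵁ U) x' hxU b ∈ Submodule.span (X.residueField (ν.base x'))
        ((Curv2.normalization X).evaluation (ν ⁻¹ᵁ U) x' hxU '' (t : Set _)) := by
    letI := (ν.residueFieldMap x').hom.toAlgebra
    have hev : ∀ a : Γ(X, U), (Curv2.normalization X).evaluation (ν ⁻¹ᵁ U) x' hxU (ν.app U a) =
        algebraMap (X.residueField (ν.base x')) _ (X.evaluation U (ν.base x') hxU a) := fun a =>
      (Scheme.evaluation_naturality_apply ν x' hxU a).symm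
    by_cases hp0 : p = ⊥
    · refine ⟨{1}, fun b => ?_⟩
      obtain ⟨c, d, hd, hbd⟩ := hfrac b
      have hd0 : X.evaluation U (ν.base x') hxU d ≠ 0 := fun h => hd (by
        have := (evaluation_eq_zero_iff hU _ hxU d).mp h
        rw [show (hU.primeIdealOf ⟨ν.base x', hxU⟩).asIdeal = ⊥ from hp0] at this
        simpa using this)
      rw [Finset.coe_singleton, Set.image_singleton, Submodule.mem_span_singleton]
      refine ⟨X.evaluation U (ν.base x') hxU c / X.evaluation U (ν.base x') hxU d, ?_⟩
      have h := congrArg ((Curv2.normalization X).evaluation (ν ⁻¹ᵁ U) x' hxU).hom hbd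
      rw [map_mul, hev, hev] at h
      rw [map_one, Algebra.smul_def, mul_one, map_div₀, ← h, mul_div_cancel_left₀]
      exact fun h' => hd0 ((map_eq_zero_iff _ (RingHom.injective _)).mp h')
    · obtain ⟨a, ha, ha0⟩ := Submodule.exists_mem_ne_zero_of_ne_bot hp0
      obtain ⟨hnoeth, -⟩ := isFiniteLength_iff_isNoetherian_isArtinian.mp
        (OneDim.isFiniteLength_quotient (integralClosure Γ(X, U) X.functionField) ha0)
      exact exists_finset_span φ.symm hnoeth (X.evaluation U (ν.base x') hxU).hom
        ((Curv2.normalization X).evaluation (ν ⁻¹ᵁ U) x' hxU).hom ((evaluation_eq_zero_iff hU _ hxU a).mpr ha)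
        fun r => by rw [← hφ r, φ.symm_apply_apply]; exact hev r
  constructor
  · -- finite fibre
    let F : {z : ↥(Curv2.normalization X) // ν.base z = ν.base x'} → PrimeSpectrum Γ(Curv2.normalization X, ν ⁻¹ᵁ U) :=
      fun z => hV.primeIdealOf ⟨z.1, show ν.base z.1 ∈ U by rw [z.2]; exact hxU⟩
    have hF : Function.Injective F := fun z w h => Subtype.ext (by
      have := congrArg hV.fromSpec h
      simp only [F, hV.fromSpec_primeIdealOf] at this
      exact this)
    suffices hfin : (Set.range F).Finite by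
      haveI := hfin.to_subtype
      exact Finite.of_injective (Set.rangeFactorization F) fun a b h => hF (congrArg Subtype.val h :)
    have hmem : ∀ z, ∀ a : Γ(X, U), ν.app U a ∈ (F z).asIdeal ↔ a ∈ p := fun z a => by
      rw [hP z.1 _ a]
      have he : (⟨ν.base z.1, show ν.base z.1 ∈ U by rw [z.2]; exact hxU⟩ : U) = ⟨ν.base x', hxU⟩ := Subtype.ext z.2
      rw [he]
    by_cases hp0 : p = ⊥
    · refine Set.Subsingleton.finite ?_
      rintro _ ⟨z, rfl⟩ _ ⟨w, rfl⟩
      suffices h : ∀ z, (F z).asIdeal = ⊥ from PrimeSpectrum.ext ((h z).trans (h w).symm)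
      intro z
      rw [eq_bot_iff]
      intro b hb
      obtain ⟨c, d, hd, hbd⟩ := hfrac b
      have hc := (hmem z c).mp (hbd ▸ (F z).asIdeal.mul_mem_left _ hb)
      rw [hp0, Ideal.mem_bot] at hc
      rw [hc, map_zero] at hbd
      refine (mul_eq_zero.mp hbd).resolve_left fun h0 => hd ?_
      have : φ (ν.app U d) = 0 := by rw [h0, map_zero]
      rw [hφ] at this
      exact IsFractionRing.injective Γ(X, U) X.functionField ((congrArg Subtype.val this).trans (map_zero _).symm)
    · obtain ⟨a, ha, ha0⟩ := Submodule.exists_mem_ne_zero_of_ne_bot hp0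
      have hfin := OneDim.finite_maximal_containing (integralClosure Γ(X, U) X.functionField) ha0
      refine Set.Finite.subset ((hfin.image fun Q => Q.comap φ).preimage
        (f := PrimeSpectrum.asIdeal) fun _ _ _ _ h => PrimeSpectrum.ext h) ?_
      rintro _ ⟨z, rfl⟩
      have hne : (F z).asIdeal ≠ ⊥ := fun h => by
        have h1 := (hmem z a).mpr ha
        rw [h, Ideal.mem_bot] at h1
        have h2 : φ (ν.app U a) = 0 := by rw [h1, map_zero]
        rw [hφ] at h2
        exact ha0 (IsFractionRing.injective Γ(X, U) X.functionField ((congrArg Subtype.val h2).trans (map_zero _).symm))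
      haveI := hD.maximalOfPrime hne (F z).isPrime
      refine ⟨(F z).asIdeal.comap φ.symm, ⟨Ideal.comap_isMaximal_of_surjective _ φ.symm.surjective, ?_⟩, ?_⟩
      · rw [Ideal.mem_comap, ← hφ a, φ.symm_apply_apply]
        exact (hmem z a).mpr ha
      · ext b
        simp
  · letI := (ν.residueFieldMap x').hom.toAlgebra
    obtain ⟨t, ht⟩ := hgen
    exact finite_of_span_of_frac ((Curv2.normalization X).evaluation (ν ⁻¹ᵁ U) x' hxU).hom t ht fun z => by
      obtain ⟨b, s, hs, hz⟩ := exists_evaluation_mul_eq hV x' hxU z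
      exact ⟨b, s, fun h => hs ((evaluation_eq_zero_iff hV x' hxU s).mp h), hz⟩

end Groth.Agent.Curv2Norm
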