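/-
Branches of an integral scheme at a point and the fibre of the normalization.
-/
import Groth.Prelude.Def_Brnch
import Groth.Agent.Curv2Norm.Basic
import Mathlib.RingTheory.Localization.Integral
import Mathlib.FieldTheory.SeparableDegree
import Mathlib.Topology.Instances.ENat
import Mathlib.Topology.Algebra.InfiniteSum.Order

set_option autoImplicit false
set_option backward.isDefEq.respectTransparency.types false
set_option linter.style.haveILetI false

universe u v

open CategoryTheory AlgebraicGeometry TopologicalSpace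

namespace Groth.Agent.Curv2Norm

section General

/-- For a family of nonempty types, the cardinality of the sum is the sum of the cardinalities. -/
theorem enatCard_sigma_of_nonempty {α : Type u} {β : α → Type v} [∀ a, Nonempty (β a)] :
    ENat.card (Σ a, β a) = ∑' a, ENat.card (β a) := by
  classical
  cases finite_or_infinite α
  · cases nonempty_fintype α
    rw [tsum_fintype]
    by_cases h : ∀ a, Finite (β a)
    · simp only [ENat.card_eq_coe_natCard, Nat.card_sigma, Nat.cast_sum]
    · push_neg at h
      obtain ⟨a, ha⟩ := h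
      haveI : Infinite (β a) := not_finite_iff_infinite.mp (by simpa using ha)
      haveI : Infinite (Σ a, β a) := Infinite.of_injective (Sigma.mk a) sigma_mk_injective
      rw [ENat.card_eq_top_of_infinite, eq_comm, eq_top_iff]
      exact (ENat.card_eq_top_of_infinite (α := β a)).symm.le.trans
        (Finset.single_le_sum (f := fun a => ENat.card (β a)) (fun _ _ => zero_le) (Finset.mem_univ a))
  · haveI : Infinite (Σ a, β a) :=
      Infinite.of_surjective Sigma.fst fun a => ⟨⟨a, Classical.arbitrary _⟩, rfl⟩
    rw [ENat.card_eq_top_of_infinite, eq_comm]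
    refine HasSum.tsum_eq (hasSum_of_isLUB ⊤ ⟨fun _ _ => le_top, fun b hb => ?_⟩)
    rw [top_le_iff, ENat.eq_top_iff_forall_ge]
    intro n
    obtain ⟨s, hs⟩ := Infinite.exists_subset_card_eq α n
    refine le_trans ?_ (hb ⟨s, rfl⟩)
    rw [← hs]
    calc (s.card : ℕ∞) = ∑ _a ∈ s, (1 : ℕ∞) := by simp
      _ ≤ ∑ a ∈ s, ENat.card (β a) :=
        Finset.sum_le_sum fun a _ => Order.one_le_iff_pos.mpr (pos_iff_ne_zero.mpr (by simp [ENat.card_eq_zero_iff_empty]))

/-- The normalization of the reduction of a domain is its integral closure in its fraction field. -/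
theorem exists_normRed_equiv (O : Type u) [CommRing O] [IsDomain O] (K : Type u) [Field K] [Algebra O K]
    [IsFractionRing O K] :
    ∃ ε : CAlg2.normRed O ≃+* integralClosure O K,
      ∀ a, ε (algebraMap (CAlg2.red O) (CAlg2.normRed O) (Ideal.Quotient.mk _ a)) = algebraMap O _ a := by
  let m : O ≃+* CAlg2.red O := RingEquiv.ofBijective (Ideal.Quotient.mk (nilradical O)) ⟨fun a b h => by
      have := Ideal.Quotient.eq.mp h
      rw [nilradical_eq_zero] at this
      exact sub_eq_zero.mp this, Ideal.Quotient.mk_surjective⟩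
  let F : FractionRing (CAlg2.red O) ≃+* K := IsFractionRing.ringEquivOfRingEquiv m.symm
  have hF : ∀ a : CAlg2.red O, F (algebraMap _ _ a) = algebraMap O K (m.symm a) :=
    IsFractionRing.ringEquivOfRingEquiv_algebraMap m.symm
  have hF' : ∀ a : O, F (algebraMap (CAlg2.red O) _ (Ideal.Quotient.mk _ a)) = algebraMap O K a := fun a => by
    rw [hF]
    exact congrArg _ (m.symm_apply_apply a)
  have h1 : ∀ x, IsIntegral (CAlg2.red O) x → IsIntegral O (F x) := fun x hx =>
    hx.map_of_comp_eq m.symm.toRingHom F.toRingHom (RingHom.ext fun a => (hF a).symm)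
  have h2 : ∀ y, IsIntegral O y → IsIntegral (CAlg2.red O) (F.symm y) := fun y hy =>
    hy.map_of_comp_eq m.toRingHom F.symm.toRingHom (RingHom.ext fun a => F.injective (by
      show F (algebraMap _ _ (m a)) = F (F.symm (algebraMap O K a))
      rw [F.apply_symm_apply]
      exact hF' a))
  exact ⟨{ toFun := fun x => ⟨F x.1, h1 _ x.2⟩
           invFun := fun y => ⟨F.symm y.1, h2 _ y.2⟩
           left_inv := fun x => Subtype.ext (F.symm_apply_apply x.1)
           right_inv := fun y => Subtype.ext (F.apply_symm_apply y.1)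
           map_mul' := fun x y => Subtype.ext (map_mul F x.1 y.1)
           map_add' := fun x y => Subtype.ext (map_add F x.1 y.1) }, fun a => Subtype.ext (hF' a)⟩

/-- Embeddings counted through ring homs compatible with the residue maps. -/
theorem exists_emb_equiv {O N L : Type u} [CommRing O] [IsLocalRing O] [CommRing N] [Field L]
    [Algebra (IsLocalRing.ResidueField O) L] [Algebra.IsAlgebraic (IsLocalRing.ResidueField O) L]
    (e : N ≃+* L) (f : O →+* N) (hf : ∀ a, e (f a) = algebraMap _ L (IsLocalRing.residue O a)) :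
    Nonempty ({σ : N →+* AlgebraicClosure (IsLocalRing.ResidueField O) // σ.comp f = Brnch.toClosure O} ≃
      Field.Emb (IsLocalRing.ResidueField O) L) := by
  letI : Algebra (IsLocalRing.ResidueField O) (AlgebraicClosure (IsLocalRing.ResidueField O)) :=
    AlgebraicClosure.instAlgebra _
  refine ⟨Equiv.trans ?_ (Field.embEquivOfIsAlgClosed (IsLocalRing.ResidueField O) L
    (AlgebraicClosure (IsLocalRing.ResidueField O))).symm⟩
  exact
    { toFun := fun σ => ⟨σ.1.comp e.symm.toRingHom, fun r => by
        obtain ⟨a, rfl⟩ := IsLocalRing.residue_surjective r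
        show σ.1 (e.symm (algebraMap _ L (IsLocalRing.residue O a))) = _
        rw [← hf, e.symm_apply_apply]
        exact DFunLike.congr_fun σ.2 a⟩
      invFun := fun τ => ⟨τ.toRingHom.comp e.toRingHom, RingHom.ext fun a => by
        show τ (e (f a)) = _
        rw [hf, τ.commutes]
        rfl⟩
      left_inv := fun σ => Subtype.ext (RingHom.ext fun z => by
        show σ.1 (e.symm (e z)) = σ.1 z
        rw [e.symm_apply_apply])
      right_inv := fun τ => AlgHom.ext fun z => by
        show τ (e (e.symm z)) = τ z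
        rw [e.apply_symm_apply] }


/-- Residue data of a localization at a point over the closed point. -/
theorem lift_isMaximal_surjective {B C L O : Type u} [CommRing B] [CommRing C] [Field L] [CommRing O]
    [IsLocalRing O] [Algebra B C] {M : Submonoid B} [IsLocalization M C] (ι₀ : O →+* C) (hint : ι₀.IsIntegral)
    {ev : B →+* L} (hM : ∀ s : M, IsUnit (ev s)) (ρ : O →+* L)
    (hρ : RingHom.ker ρ = IsLocalRing.maximalIdeal O) (hcomm : ∀ a, IsLocalization.lift (S := C) hM (ι₀ a) = ρ a)
    (hfrac : ∀ w : L, ∃ b s, ev s ≠ 0 ∧ w * ev s = ev b) :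
    (RingHom.ker (IsLocalization.lift (S := C) hM)).IsMaximal ∧
      Function.Surjective (IsLocalization.lift (S := C) hM) := by
  set θ := IsLocalization.lift (S := C) hM with hθdef
  have hθ : ∀ b, θ (algebraMap B C b) = ev b := fun b => IsLocalization.lift_eq hM b
  letI := ι₀.toAlgebra
  haveI : Algebra.IsIntegral O C := ⟨hint⟩
  haveI := RingHom.ker_isPrime θ
  have hmax : (RingHom.ker θ).IsMaximal := by
    refine Ideal.isMaximal_of_isIntegral_of_isMaximal_comap (R := O) _ ?_
    have : (RingHom.ker θ).comap (algebraMap O C) = IsLocalRing.maximalIdeal O := by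
      rw [← hρ]
      ext a
      simp only [Ideal.mem_comap, RingHom.mem_ker, RingHom.algebraMap_toAlgebra, hcomm]
    rw [this]
    exact IsLocalRing.maximalIdeal.isMaximal O
  refine ⟨hmax, fun w => ?_⟩
  obtain ⟨b, s, hs, hw⟩ := hfrac w
  haveI := hmax
  letI := Ideal.Quotient.field (RingHom.ker θ)
  obtain ⟨t, ht⟩ := Ideal.Quotient.mk_surjective ((Ideal.Quotient.mk (RingHom.ker θ) (algebraMap B C s))⁻¹)
  have h1 : θ (algebraMap B C s * t) = 1 := by
    rw [← sub_eq_zero, ← map_one θ, ← map_sub, ← RingHom.mem_ker, ← Ideal.Quotient.eq_zero_iff_mem,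
      map_sub, map_mul, ht, map_one, mul_inv_cancel₀, sub_self]
    exact fun h => hs (by rw [← hθ]; exact RingHom.mem_ker.mp (Ideal.Quotient.eq_zero_iff_mem.mp h))
  refine ⟨algebraMap B C b * t, ?_⟩
  rw [map_mul, hθ] at h1 ⊢
  rw [← hw, mul_assoc, h1, mul_one]

end General

variable (X : Scheme.{u}) [IsIntegral X] [QuasiCompact (X.fromSpecStalk (genericPoint X))]
  [QuasiSeparated (X.fromSpecStalk (genericPoint X))]

/-- The normalization of a local ring is a localization of the sections of the normalization. -/
theorem exists_localization {U : X.Opens} (hU : IsAffineOpen U) {x : X} (hxU : x ∈ U) :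
    ∃ β : Γ(Curv2.normalization X, Curv2.normalizationι X ⁻¹ᵁ U) →+* CAlg2.normRed (X.presheaf.stalk x),
      (∀ a, β ((Curv2.normalizationι X).app U a) =
        algebraMap (CAlg2.red (X.presheaf.stalk x)) _ (Ideal.Quotient.mk _ (X.presheaf.germ U x hxU a))) ∧
      (letI := β.toAlgebra
       IsLocalization ((hU.primeIdealOf ⟨x, hxU⟩).asIdeal.primeCompl.map ((Curv2.normalizationι X).app U).hom)
        (CAlg2.normRed (X.presheaf.stalk x))) := by
  haveI : Nonempty U := ⟨⟨x, hxU⟩⟩
  obtain ⟨φ, hφ⟩ := exists_sections_equiv X hU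
  haveI := functionField_isFractionRing_of_isAffineOpen X U hU
  set p := (hU.primeIdealOf ⟨x, hxU⟩).asIdeal
  letI algUO : Algebra Γ(X, U) (X.presheaf.stalk x) := X.presheaf.algebra_section_stalk ⟨x, hxU⟩
  haveI := hU.isLocalization_stalk ⟨x, hxU⟩
  haveI : IsScalarTower Γ(X, U) (X.presheaf.stalk x) X.functionField :=
    IsScalarTower.of_algebraMap_eq fun a => (TopCat.Presheaf.germ_stalkSpecializes_apply X.presheaf
      (hxU : x ∈ U) (genericPoint_specializes x) a).symm
  haveI : IsFractionRing (X.presheaf.stalk x) X.functionField :=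
    IsFractionRing.isFractionRing_of_isDomain_of_isLocalization p.primeCompl _ _
  obtain ⟨ε, hε⟩ := exists_normRed_equiv (X.presheaf.stalk x) X.functionField
  let γ : Γ(Curv2.normalization X, Curv2.normalizationι X ⁻¹ᵁ U) →+* integralClosure (X.presheaf.stalk x) X.functionField :=
      { toFun := fun b => ⟨(φ b).1, (φ b).2.tower_top⟩
        map_one' := Subtype.ext (congrArg Subtype.val (map_one φ) :)
        map_mul' := fun b c => Subtype.ext (congrArg Subtype.val (map_mul φ b c) :)
        map_zero' := Subtype.ext (congrArg Subtype.val (map_zero φ) :)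
        map_add' := fun b c => Subtype.ext (congrArg Subtype.val (map_add φ b c) :) }
  have happ : ∀ a, γ ((Curv2.normalizationι X).app U a) =
      algebraMap (X.presheaf.stalk x) _ (X.presheaf.germ U x hxU a) := fun a => by
    apply Subtype.ext
    show (φ ((Curv2.normalizationι X).app U a)).1 =
      algebraMap (X.presheaf.stalk x) X.functionField (X.presheaf.germ U x hxU a)
    rw [hφ]
    exact IsScalarTower.algebraMap_apply Γ(X, U) (X.presheaf.stalk x) X.functionField a
  have hγinj : Function.Injective γ := fun b c h => φ.injective (Subtype.ext (congrArg Subtype.val h :))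
  refine ⟨ε.symm.toRingHom.comp γ, fun a => ε.injective ?_, ?_⟩
  · show ε (ε.symm (γ _)) = _
    rw [ε.apply_symm_apply, happ, hε]
  · letI := (ε.symm.toRingHom.comp γ).toAlgebra
    refine (isLocalization_iff _ _).mpr ⟨?_, ?_, ?_⟩
    · rintro ⟨_, s, hs, rfl⟩
      show IsUnit (ε.symm (γ ((Curv2.normalizationι X).app U s)))
      rw [happ]
      exact ((IsLocalization.map_units (X.presheaf.stalk x) (⟨s, hs⟩ : p.primeCompl)).map
        (algebraMap _ _)).map ε.symm
    · intro y
      obtain ⟨⟨s, hs⟩, hint⟩ := (ε y).2.exists_multiple_integral_of_isLocalization p.primeCompl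
      obtain ⟨b, hb⟩ := φ.surjective ⟨_, hint⟩
      refine ⟨(b, ⟨_, s, hs, rfl⟩), ε.injective ?_⟩
      show ε (y * ε.symm (γ ((Curv2.normalizationι X).app U s))) = ε (ε.symm (γ b))
      rw [map_mul, ε.apply_symm_apply, ε.apply_symm_apply]
      apply Subtype.ext
      show (ε y).1 * (φ ((Curv2.normalizationι X).app U s)).1 = (φ b).1
      rw [hb, hφ]
      show (ε y).1 * algebraMap Γ(X, U) X.functionField s = s • (ε y).1
      rw [Algebra.smul_def, mul_comm]
    · intro b c h
      exact ⟨1, by rw [hγinj (ε.symm.injective h)]⟩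

set_option maxHeartbeats 1000000 in
/-- The points over `x` correspond to the maximal ideals of an abstract normalization of the local ring. -/
theorem exists_fibre_equiv_aux {U : X.Opens} (hU : IsAffineOpen U) {x : X} (hxU : x ∈ U) {C : Type u}
    [CommRing C] (ι₀ : X.presheaf.stalk x →+* C) (hint : ι₀.IsIntegral)
    [Algebra Γ(Curv2.normalization X, Curv2.normalizationι X ⁻¹ᵁ U) C]
    [hCloc : IsLocalization ((hU.primeIdealOf ⟨x, hxU⟩).asIdeal.primeCompl.map ((Curv2.normalizationι X).app U).hom) C]
    (happ : ∀ a, algebraMap Γ(Curv2.normalization X, Curv2.normalizationι X ⁻¹ᵁ U) C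
      ((Curv2.normalizationι X).app U a) = ι₀ (X.presheaf.germ U x hxU a)) :
    ∃ G : {z : ↥(Curv2.normalization X) // (Curv2.normalizationι X).base z = x} ≃ MaximalSpectrum C,
      ∀ z : {z : ↥(Curv2.normalization X) // (Curv2.normalizationι X).base z = x},
        ∃ e : (C ⧸ (G z).asIdeal) ≃+* (Curv2.normalization X).residueField z.1,
          ∀ a, e (Ideal.Quotient.mk _ (ι₀ a)) = (Curv2.normalizationι X).residueFieldMap z.1
            ((X.residueFieldCongr z.2.symm).hom (X.residue x a)) := by
  have hV := isAffineOpen_preimage X hU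
  set p := (hU.primeIdealOf ⟨x, hxU⟩).asIdeal
  set M := p.primeCompl.map ((Curv2.normalizationι X).app U).hom
  haveI : IsLocalization M C := hCloc
  letI algUO : Algebra Γ(X, U) (X.presheaf.stalk x) := X.presheaf.algebra_section_stalk ⟨x, hxU⟩
  haveI := hU.isLocalization_stalk ⟨x, hxU⟩
  let zU : ∀ z : {z : ↥(Curv2.normalization X) // (Curv2.normalizationι X).base z = x}, z.1 ∈ (Curv2.normalizationι X) ⁻¹ᵁ U := fun z => by
    show (Curv2.normalizationι X).base z.1 ∈ U
    rw [z.2]; exact hxU
  let ev := fun z : {z : ↥(Curv2.normalization X) // (Curv2.normalizationι X).base z = x} =>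
    ((Curv2.normalization X).evaluation ((Curv2.normalizationι X) ⁻¹ᵁ U) z.1 (zU z)).hom
  let ρ := fun z : {z : ↥(Curv2.normalization X) // (Curv2.normalizationι X).base z = x} =>
    (((Curv2.normalizationι X).residueFieldMap z.1).hom.comp (X.residueFieldCongr z.2.symm).hom.hom).comp (X.residue x).hom
  have hρ : ∀ z, RingHom.ker (ρ z) = IsLocalRing.maximalIdeal (X.presheaf.stalk x) := fun z => by
    ext a
    rw [RingHom.mem_ker]
    show (Curv2.normalizationι X).residueFieldMap z.1 ((X.residueFieldCongr z.2.symm).hom (X.residue x a)) = 0 ↔ _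
    rw [map_eq_zero_iff _ (RingHom.injective _), map_eq_zero_iff _ (RingHom.injective _)]
    exact Ideal.Quotient.eq_zero_iff_mem
  have hρev : ∀ z r, ρ z (X.presheaf.germ U x hxU r) = ev z ((Curv2.normalizationι X).app U r) := by
    rintro ⟨z, rfl⟩ r
    refine Eq.trans ?_ (Scheme.evaluation_naturality_apply (Curv2.normalizationι X) z hxU r)
    show (Curv2.normalizationι X).residueFieldMap z ((X.residueFieldCongr rfl).hom (X.evaluation U ((Curv2.normalizationι X).base z) hxU r)) = _
    simp
  have hevunit : ∀ z, ∀ s : M, IsUnit (ev z s) := by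
    rintro z ⟨_, s, hs, rfl⟩
    show IsUnit (ev z ((Curv2.normalizationι X).app U s))
    rw [← hρev]
    exact (IsLocalization.map_units (X.presheaf.stalk x) (⟨s, hs⟩ : p.primeCompl)).map (ρ z)
  let θ := fun z => IsLocalization.lift (S := C) (hevunit z)
  have hθ : ∀ z b, θ z (algebraMap _ C b) = ev z b := fun z b => IsLocalization.lift_eq (hevunit z) b
  have hθres : ∀ z a, θ z (ι₀ a) = ρ z a := by
    intro z a
    have key : (θ z).comp ι₀ = ρ z := by
      refine IsLocalization.ringHom_ext p.primeCompl (RingHom.ext fun r => ?_)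
      show θ z (ι₀ (X.presheaf.germ U x hxU r)) = ρ z (X.presheaf.germ U x hxU r)
      rw [← happ, hθ, hρev]
    exact DFunLike.congr_fun key a
  have hfrac : ∀ z, ∀ w, ∃ b s, ev z s ≠ 0 ∧ w * ev z s = ev z b := by
    intro z w
    letI := (Curv2.normalization X).presheaf.algebra_section_stalk ⟨z.1, zU z⟩
    haveI := hV.isLocalization_stalk ⟨z.1, zU z⟩
    obtain ⟨w, rfl⟩ := (Curv2.normalization X).residue_surjective z.1 w
    obtain ⟨⟨b, s⟩, hbs⟩ := IsLocalization.surj (hV.primeIdealOf ⟨z.1, zU z⟩).asIdeal.primeCompl w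
    exact ⟨b, s, fun h => s.2 ((IsLocalization.AtPrime.to_map_mem_maximal_iff
      ((Curv2.normalization X).presheaf.stalk z.1) (hV.primeIdealOf ⟨z.1, zU z⟩).asIdeal _).mp
      (Ideal.Quotient.eq_zero_iff_mem.mp h)),
      (((Curv2.normalization X).residue z.1).hom.map_mul _ _).symm.trans
        (congrArg ((Curv2.normalization X).residue z.1).hom hbs)⟩
  have hdata := fun z => lift_isMaximal_surjective ι₀ hint (hevunit z) (ρ z) (hρ z) (hθres z) (hfrac z)
  have hcomap : ∀ z, (RingHom.ker (θ z)).comap (algebraMap _ C) = (hV.primeIdealOf ⟨z.1, zU z⟩).asIdeal := fun z => by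
    ext b
    letI := (Curv2.normalization X).presheaf.algebra_section_stalk ⟨z.1, zU z⟩
    haveI := hV.isLocalization_stalk ⟨z.1, zU z⟩
    rw [Ideal.mem_comap, RingHom.mem_ker, hθ,
      ← IsLocalization.AtPrime.to_map_mem_maximal_iff ((Curv2.normalization X).presheaf.stalk z.1)
        (hV.primeIdealOf ⟨z.1, zU z⟩).asIdeal b]
    exact Ideal.Quotient.eq_zero_iff_mem
  let G₀ : {z : ↥(Curv2.normalization X) // (Curv2.normalizationι X).base z = x} → MaximalSpectrum C :=
    fun z => ⟨RingHom.ker (θ z), (hdata z).1⟩
  have hG : Function.Bijective G₀ := by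
    constructor
    · intro z w h
      have h' : (hV.primeIdealOf ⟨z.1, zU z⟩) = hV.primeIdealOf ⟨w.1, zU w⟩ := PrimeSpectrum.ext (by
        rw [← hcomap, ← hcomap]
        exact congrArg (fun m : MaximalSpectrum _ => m.asIdeal.comap (algebraMap _ C)) h)
      have := congrArg hV.fromSpec h'
      rw [hV.fromSpec_primeIdealOf, hV.fromSpec_primeIdealOf] at this
      exact Subtype.ext this
    · intro m
      haveI := m.isMaximal
      set q : PrimeSpectrum Γ(Curv2.normalization X, (Curv2.normalizationι X) ⁻¹ᵁ U) :=
        ⟨m.asIdeal.comap (algebraMap _ C), Ideal.comap_isPrime _ _⟩ with hq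
      have hqU : hV.fromSpec q ∈ (Curv2.normalizationι X) ⁻¹ᵁ U := by
        have : hV.fromSpec q ∈ Set.range hV.fromSpec := ⟨q, rfl⟩
        rwa [hV.range_fromSpec] at this
      have hqe : hV.primeIdealOf ⟨hV.fromSpec q, hqU⟩ = q :=
        hV.fromSpec.isOpenEmbedding.injective (hV.fromSpec_primeIdealOf ⟨_, hqU⟩)
      have hmc : ∀ a, ι₀ a ∈ m.asIdeal ↔ a ∈ IsLocalRing.maximalIdeal (X.presheaf.stalk x) := by
        letI := ι₀.toAlgebra
        haveI : Algebra.IsIntegral (X.presheaf.stalk x) C := ⟨hint⟩
        haveI := Ideal.isMaximal_comap_of_isIntegral_of_isMaximal (R := X.presheaf.stalk x) m.asIdeal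
        intro a
        rw [← IsLocalRing.eq_maximalIdeal (R := X.presheaf.stalk x)
          (I := m.asIdeal.comap (algebraMap _ _)) inferInstance]
        rfl
      have hνq : (Curv2.normalizationι X).base (hV.fromSpec q) = x := by
        have he : hU.primeIdealOf ⟨(Curv2.normalizationι X).base (hV.fromSpec q), hqU⟩ = hU.primeIdealOf ⟨x, hxU⟩ := by
          refine PrimeSpectrum.ext (Ideal.ext fun a => ?_)
          have h1 : a ∈ (hU.primeIdealOf ⟨(Curv2.normalizationι X).base (hV.fromSpec q), hqU⟩).asIdeal ↔
              (Curv2.normalizationι X).app U a ∈ (hV.primeIdealOf ⟨hV.fromSpec q, hqU⟩).asIdeal := by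
            letI := X.presheaf.algebra_section_stalk ⟨(Curv2.normalizationι X).base (hV.fromSpec q), hqU⟩
            haveI := hU.isLocalization_stalk ⟨(Curv2.normalizationι X).base (hV.fromSpec q), hqU⟩
            letI := (Curv2.normalization X).presheaf.algebra_section_stalk ⟨hV.fromSpec q, hqU⟩
            haveI := hV.isLocalization_stalk ⟨hV.fromSpec q, hqU⟩
            rw [← IsLocalization.AtPrime.to_map_mem_maximal_iff (X.presheaf.stalk ((Curv2.normalizationι X).base (hV.fromSpec q))) _ a,
              ← IsLocalization.AtPrime.to_map_mem_maximal_iff ((Curv2.normalization X).presheaf.stalk (hV.fromSpec q)) _ ((Curv2.normalizationι X).app U a)]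
            refine Iff.trans Ideal.Quotient.eq_zero_iff_mem.symm (Iff.trans ?_ Ideal.Quotient.eq_zero_iff_mem)
            show X.evaluation U _ hqU a = 0 ↔ (Curv2.normalization X).evaluation _ _ hqU ((Curv2.normalizationι X).app U a) = 0
            rw [← Scheme.evaluation_naturality_apply]
            exact (map_eq_zero_iff _ (RingHom.injective _)).symm
          rw [h1, hqe, hq]
          show algebraMap Γ(Curv2.normalization X, (Curv2.normalizationι X) ⁻¹ᵁ U) C ((Curv2.normalizationι X).app U a) ∈ m.asIdeal ↔ _
          rw [happ, hmc]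
          exact IsLocalization.AtPrime.to_map_mem_maximal_iff (X.presheaf.stalk x) p a
        have := congrArg hU.fromSpec he
        rwa [hU.fromSpec_primeIdealOf, hU.fromSpec_primeIdealOf] at this
      refine ⟨⟨_, hνq⟩, MaximalSpectrum.ext ?_⟩
      have h3 : (RingHom.ker (θ ⟨_, hνq⟩)).comap (algebraMap Γ(Curv2.normalization X, (Curv2.normalizationι X) ⁻¹ᵁ U) C) =
          m.asIdeal.comap (algebraMap Γ(Curv2.normalization X, (Curv2.normalizationι X) ⁻¹ᵁ U) C) := by
        rw [hcomap]
        exact congrArg PrimeSpectrum.asIdeal hqe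
      show RingHom.ker (θ ⟨_, hνq⟩) = m.asIdeal
      exact (IsLocalization.map_comap M C _).symm.trans
        ((congrArg (Ideal.map (algebraMap Γ(Curv2.normalization X, (Curv2.normalizationι X) ⁻¹ᵁ U) C)) h3).trans
          (IsLocalization.map_comap M C _))
  refine ⟨Equiv.ofBijective G₀ hG, fun z => ⟨RingHom.quotientKerEquivOfSurjective (hdata z).2, fun a => ?_⟩⟩
  exact hθres z a

set_option maxHeartbeats 1000000 in
/-- The points over `x` are the maximal ideals of the normalization of the local ring, with the same residue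
fields. -/
theorem exists_fibre_equiv (x : X) :
    ∃ G : {z : ↥(Curv2.normalization X) // (Curv2.normalizationι X).base z = x} ≃
        MaximalSpectrum (CAlg2.normRed (X.presheaf.stalk x)),
      ∀ z : {z : ↥(Curv2.normalization X) // (Curv2.normalizationι X).base z = x},
        Nonempty (Brnch.Emb (X.presheaf.stalk x) (G z) ≃
          (letI := ((Curv2.normalizationι X).residueFieldMap z.1).hom.toAlgebra
           Field.Emb (X.residueField ((Curv2.normalizationι X).base z.1))
             ((Curv2.normalization X).residueField z.1))) ∧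
        Nonempty (Brnch.Emb (X.presheaf.stalk x) (G z)) := by
  obtain ⟨U, hU, hxU, -⟩ := exists_isAffineOpen_mem_and_subset (x := x) (U := ⊤) trivial
  obtain ⟨β, hβ, hloc⟩ := exists_localization X hU hxU
  letI := β.toAlgebra
  haveI := hloc
  obtain ⟨G, hG⟩ := exists_fibre_equiv_aux X hU hxU
    ((algebraMap (CAlg2.red (X.presheaf.stalk x)) (CAlg2.normRed (X.presheaf.stalk x))).comp
      (Ideal.Quotient.mk _))
    (RingHom.IsIntegral.trans _ _ (RingHom.isIntegral_of_surjective _ Ideal.Quotient.mk_surjective)
      (algebraMap_isIntegral_iff.mpr inferInstance))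
    hβ
  refine ⟨G, ?_⟩
  intro z
  obtain ⟨z, rfl⟩ := z
  obtain ⟨e, he⟩ := hG ⟨z, rfl⟩
  letI := ((Curv2.normalizationι X).residueFieldMap z).hom.toAlgebra
  have hcompat : ∀ a, e (Brnch.toResidue (X.presheaf.stalk ((Curv2.normalizationι X).base z)) (G ⟨z, rfl⟩) a) =
      algebraMap (X.residueField ((Curv2.normalizationι X).base z)) _ (X.residue _ a) := fun a => by
    refine (he a).trans ?_
    simp [RingHom.algebraMap_toAlgebra]
  haveI : Algebra.IsIntegral (X.residueField ((Curv2.normalizationι X).base z)) ((Curv2.normalization X).residueField z) :=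
    ⟨fun w => by
      obtain ⟨w, rfl⟩ := e.surjective w
      obtain ⟨y, rfl⟩ := Ideal.Quotient.mk_surjective w
      exact (Algebra.IsIntegral.isIntegral (R := CAlg2.red (X.presheaf.stalk ((Curv2.normalizationι X).base z))) y).map_of_comp_eq
        (Ideal.Quotient.lift (nilradical (X.presheaf.stalk ((Curv2.normalizationι X).base z))) (X.residue _).hom fun a ha => by
          rw [nilradical_eq_zero] at ha
          rw [show a = 0 from ha, map_zero])
        (e.toRingHom.comp (Ideal.Quotient.mk _))
        (Ideal.Quotient.ringHom_ext (RingHom.ext fun a => (hcompat a).symm))⟩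
  haveI h : Algebra.IsAlgebraic (X.residueField ((Curv2.normalizationι X).base z))
      ((Curv2.normalization X).residueField z) := Algebra.IsIntegral.isAlgebraic
  letI : Algebra (IsLocalRing.ResidueField (X.presheaf.stalk ((Curv2.normalizationι X).base z)))
      ((Curv2.normalization X).residueField z) := ((Curv2.normalizationι X).residueFieldMap z).hom.toAlgebra
  haveI : Algebra.IsAlgebraic (IsLocalRing.ResidueField (X.presheaf.stalk ((Curv2.normalizationι X).base z)))
      ((Curv2.normalization X).residueField z) := h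
  obtain ⟨E⟩ := exists_emb_equiv e
    (Brnch.toResidue (X.presheaf.stalk ((Curv2.normalizationι X).base z)) (G ⟨z, rfl⟩)) hcompat
  exact ⟨⟨E⟩, ⟨E.symm (Classical.arbitrary _)⟩⟩

end Groth.Agent.Curv2Norm
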